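import Groth.Agent.ASp.Affine
import Groth.Agent.ASp.Univ
import Groth.Agent.ASp.Quot
import Mathlib.CategoryTheory.Limits.Shapes.WidePullbacks
/-!
Descending properties along Čech nerves of coverings of algebraic spaces by affine schemes.
-/

set_option autoImplicit false
set_option backward.isDefEq.respectTransparency.types false
set_option linter.style.haveILetI false

universe u

open CategoryTheory CategoryTheory.Limits AlgebraicGeometry Opposite

namespace Groth.Agent.CechDescLib

open _root_.AlgSp Groth.Agent.ASp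

variable {S : Scheme.{u}} {X : Sp S}

/-- A map of sheaves which is bijective on the points with values in schemes is an isomorphism. -/
theorem isIso_of_bijective {F G : Sp S} (φ : F ⟶ G)
    (h : ∀ (T : Over S) (t : (yon S).obj T ⟶ G), ∃! s : (yon S).obj T ⟶ F, s ≫ φ = t) : IsIso φ := by
  have : ∀ W, IsIso (((sheafToPresheaf (J S) (Type (u + 1))).map φ).app W) := fun W => by
    refine (isIso_iff_bijective _).2 ⟨fun x y e => ?_, fun c => ?_⟩
    · obtain ⟨x, rfl⟩ := (J S).uliftYonedaEquiv.{u + 1}.surjective x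
      obtain ⟨y, rfl⟩ := (J S).uliftYonedaEquiv.{u + 1}.surjective y
      exact congrArg _ ((h W.unop (x ≫ φ)).unique rfl ((J S).uliftYonedaEquiv.{u + 1}.injective e.symm))
    · obtain ⟨c, rfl⟩ := (J S).uliftYonedaEquiv.{u + 1}.surjective c
      obtain ⟨s, hs, -⟩ := h W.unop c
      exact ⟨(J S).uliftYonedaEquiv.{u + 1} s, congrArg (J S).uliftYonedaEquiv.{u + 1} hs⟩
  haveI : IsIso ((sheafToPresheaf (J S) (Type (u + 1))).map φ) := NatIso.isIso_of_isIso_app _
  exact isIso_of_fully_faithful (sheafToPresheaf (J S) (Type (u + 1))) φ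

theorem isAlgSpace_of_iso_yon {U : Sp S} {T : Over S} (e : U ≅ (yon S).obj T) : IsAlgSpace U :=
  isAlgSpace_of_isPullback (IsAlgSpace.yon_obj T).diag (IsAlgSpace.yon_obj T) (IsAlgSpace.yon_obj T)
    (IsPullback.of_vert_isIso (fst := e.hom) (snd := e.hom) (f := 𝟙 _) (g := 𝟙 _) ⟨rfl⟩)

variable (P : ∀ ⦃U : Sp S⦄, (U ⟶ X) → Prop)

/-- The descending property of the statement. -/
def Desc : Prop :=
  ∀ ⦃U : Sp S⦄ (a : U ⟶ X), IsAlgSpace U →
    ∀ ⦃ι : Type u⦄ (Ui : ι → Sp S) (g : ∀ i, Ui i ⟶ U), (∀ i, IsAlgSpace (Ui i)) →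
    IsFppfCover Ui g →
    (∀ (n : ℕ) (c : Fin (n + 1) → ι),
      P (WidePullback.base (fun k : Fin (n + 1) => g (c k)) ≫ a)) → P a

variable {P}

/-- The intersection step: the property passes from the finite intersections of an open covering to a scheme. -/
theorem prop_of_openCover (hP : Desc P) {U : Sp S} (a : U ⟶ X) (T : Over S) (e : U ≅ (yon S).obj T)
    (hfl : LocP @Flat a) (hfp : LocP @LocallyOfFinitePresentation a) {ι : Type u} (O : ι → T.left.Opens)
    (hO : ⨆ i, O i = ⊤)
    (h : ∀ (n : ℕ) (c : Fin (n + 1) → ι) (V : Sp S) (b : V ⟶ X)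
      (_ : V ≅ (yon S).obj (Over.mk ((⨅ k, O (c k)).ι ≫ T.hom))),
      LocP @Flat b → LocP @LocallyOfFinitePresentation b → P b) : P a := by
  have hU := isAlgSpace_of_iso_yon e
  let O' : ι → Over S := fun i => Over.mk ((O i).ι ≫ T.hom)
  let j : ∀ i, O' i ⟶ T := fun i => Over.homMk (O i).ι rfl
  let g : ∀ i, (yon S).obj (O' i) ⟶ U := fun i => (yon S).map (j i) ≫ e.inv
  have hg : ∀ i, RepWith @IsOpenImmersion (g i) := fun i =>
    repWith_comp (repWith_yon_map (inferInstanceAs (IsOpenImmersion (O i).ι))) (repWith_of_isIso e.inv)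
  refine hP a hU _ g (fun i => IsAlgSpace.yon_obj _)
    ⟨fun i => ⟨locP_of_repWith (repWith_mono (fun _ _ f (hf : IsOpenImmersion f) =>
      (haveI := hf; inferInstance : Flat f)) (hg i)), locP_of_repWith (repWith_mono
        (fun _ _ f (hf : IsOpenImmersion f) => (haveI := hf; inferInstance : LocallyOfFinitePresentation f)) (hg i))⟩,
      fun x => ?_⟩ fun n c => ?_
  · obtain ⟨y, rfl⟩ : ∃ y, Points.map e.inv y = x :=
      ⟨Points.map e.hom x, by rw [← Points.map_comp, e.hom_inv_id, Points.map_id]⟩
    obtain ⟨t, rfl⟩ := (Points.schemeHomeo T).surjective y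
    obtain ⟨i, hi⟩ : ∃ i, t ∈ O i := by
      have : t ∈ ⨆ i, O i := by rw [hO]; trivial
      exact TopologicalSpace.Opens.mem_iSup.1 this
    refine ⟨i, Points.schemeHomeo (O' i) ⟨t, hi⟩, ?_⟩
    rw [Points.map_comp, Points.map_yon_map_apply]
    rfl
  · let I : T.left.Opens := ⨅ k, O (c k)
    let I' : Over S := Over.mk (I.ι ≫ T.hom)
    let jI : I' ⟶ T := Over.homMk I.ι rfl
    let r : ∀ k, I' ⟶ O' (c k) := fun k => Over.homMk (T.left.homOfLE (iInf_le (fun k => O (c k)) k)) (by
      change T.left.homOfLE _ ≫ (O (c k)).ι ≫ T.hom = I.ι ≫ T.hom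
      rw [Scheme.homOfLE_ι_assoc])
    have hr : ∀ k, r k ≫ j (c k) = jI := fun k =>
      Over.OverMorphism.ext (Scheme.homOfLE_ι T.left (iInf_le (fun k => O (c k)) k))
    let L : (yon S).obj I' ⟶ widePullback U (fun k => (yon S).obj (O' (c k))) (fun k => g (c k)) :=
      WidePullback.lift ((yon S).map jI ≫ e.inv) (fun k => (yon S).map (r k)) (fun k => by
        simp only [g]
        rw [← Functor.map_comp_assoc, hr k])
    haveI : IsIso L := isIso_of_bijective L fun V t => by
      have hl : ∀ k, ∃ l : V ⟶ O' (c k), (yon S).map l = t ≫ WidePullback.π _ k := fun k =>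
        (yon S).map_surjective _
      choose l hl using hl
      obtain ⟨v, hv⟩ := (yon S).map_surjective (t ≫ WidePullback.base _ ≫ e.hom)
      have hlv : ∀ k, l k ≫ j (c k) = v := fun k => (yon S).map_injective (by
        rw [Functor.map_comp, hl, hv, ← cancel_mono e.inv, Category.assoc, Category.assoc]
        simp only [Category.assoc, Iso.hom_inv_id, Category.comp_id]
        exact congrArg (t ≫ ·) (WidePullback.π_arrow (fun k => g (c k)) k))
      have hmem : Set.range v.left ⊆ Set.range I.ι := by
        rintro _ ⟨z, rfl⟩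
        rw [Scheme.Opens.range_ι]
        show v.left z ∈ (⨅ k, O (c k) : T.left.Opens)
        rw [← SetLike.mem_coe, TopologicalSpace.Opens.coe_iInf]
        refine Set.mem_iInter.2 fun k => ?_
        rw [← hlv k]
        exact ((l k).left z).2
      let w : V ⟶ I' := Over.homMk (IsOpenImmersion.lift I.ι v.left hmem) (by
        change IsOpenImmersion.lift I.ι v.left hmem ≫ I.ι ≫ T.hom = V.hom
        rw [IsOpenImmersion.lift_fac_assoc, Over.w v])
      have hw : w ≫ jI = v := Over.OverMorphism.ext (IsOpenImmersion.lift_fac _ _ _)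
      refine ⟨(yon S).map w, WidePullback.hom_ext _ _ _ (fun k => ?_) ?_, fun s hs => ?_⟩
      · rw [Category.assoc, WidePullback.lift_π, ← Functor.map_comp, ← hl k]
        congr 1
        haveI : Mono (j (c k)) := Over.mono_of_mono_left _
        rw [← cancel_mono (j (c k)), Category.assoc, hr k, hw, hlv k]
      · rw [Category.assoc, WidePullback.lift_base, ← Functor.map_comp_assoc, hw, hv]
        simp
      · obtain ⟨s, rfl⟩ := (yon S).map_surjective s
        congr 1
        haveI : Mono jI := Over.mono_of_mono_left _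
        rw [← cancel_mono jI, hw]
        apply (yon S).map_injective
        have := congrArg (· ≫ WidePullback.base _ ≫ e.hom) hs
        simp only [L, Category.assoc, WidePullback.lift_base_assoc, Iso.inv_hom_id, Category.comp_id] at this
        rw [Functor.map_comp, this, hv]
    have hb : RepWith @IsOpenImmersion (WidePullback.base (fun k => g (c k))) := by
      have e1 : WidePullback.base (fun k => g (c k)) = inv L ≫ (yon S).map jI ≫ e.inv := by
        rw [IsIso.eq_inv_comp, WidePullback.lift_base]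
      rw [e1]
      exact repWith_comp (repWith_of_isIso _)
        (repWith_comp (repWith_yon_map (inferInstanceAs (IsOpenImmersion I.ι))) (repWith_of_isIso e.inv))
    exact h n c _ _ (asIso L).symm
      (locP_comp hU (locP_of_repWith (repWith_mono (fun _ _ f (hf : IsOpenImmersion f) => (haveI := hf; inferInstance : Flat f)) hb)) hfl)
      (locP_comp hU (locP_of_repWith (repWith_mono (fun _ _ f (hf : IsOpenImmersion f) =>
        (haveI := hf; inferInstance : LocallyOfFinitePresentation f)) hb)) hfp)

/-- The affine step and its iteration: the property holds for all schemes. -/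
theorem prop_of_scheme (hP : Desc P)
    (haff : ∀ ⦃U : Sp S⦄ (a : U ⟶ X) (T : Over S) (_ : U ≅ (yon S).obj T), IsAffine T.left →
      LocP @Flat a → LocP @LocallyOfFinitePresentation a → P a)
    {U : Sp S} (a : U ⟶ X) (T : Over S) (e : U ≅ (yon S).obj T)
    (hfl : LocP @Flat a) (hfp : LocP @LocallyOfFinitePresentation a) : P a := by
  have hsep : ∀ ⦃U : Sp S⦄ (a : U ⟶ X) (T : Over S) (_ : U ≅ (yon S).obj T), T.left.IsSeparated →
      LocP @Flat a → LocP @LocallyOfFinitePresentation a → P a := by
    intro U a T e hT hfl hfp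
    refine prop_of_openCover hP a T e hfl hfp (fun i : T.left.affineOpens => i.1) (iSup_affineOpens_eq_top _)
      fun n c V b eV => haff b _ eV ?_
    change IsAffineOpen (⨅ k, (c k).1)
    haveI := hT
    clear eV e hfl hfp b V
    induction n with
    | zero =>
      rw [show (⨅ k, (c k).1) = (c 0).1 from
        le_antisymm (iInf_le _ 0) (le_iInf fun k => by rw [Fin.fin_one_eq_zero k])]
      exact (c 0).2
    | succ m ih =>
      have : (⨅ k, (c k).1) = (c 0).1 ⊓ ⨅ k : Fin (m + 1), (c k.succ).1 := by
        refine le_antisymm (le_inf (iInf_le _ 0) (le_iInf fun k => iInf_le _ k.succ)) (le_iInf fun k => ?_)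
        refine Fin.cases inf_le_left (fun k => ?_) k
        exact inf_le_right.trans (iInf_le (fun k : Fin (m + 1) => (c k.succ).1) k)
      rw [this]
      exact (c 0).2.inf (ih (fun k => c k.succ))
  refine prop_of_openCover hP a T e hfl hfp (fun i : T.left.affineOpens => i.1) (iSup_affineOpens_eq_top _)
    fun n c V b eV => hsep b _ eV ?_
  have hI : (⨅ k, (c k).1) ≤ (c 0).1 := iInf_le _ 0
  haveI : IsAffine ((c 0).1 : Scheme.{u}) := (c 0).2
  haveI : IsSeparated (T.left.homOfLE hI) := inferInstance
  constructor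
  change IsSeparated (terminal.from ((⨅ k, (c k).1 : T.left.Opens) : Scheme.{u}))
  rw [← terminal.comp_from (T.left.homOfLE hI)]
  infer_instance

/-- Iterated fibre products of representable charts are schemes. -/
theorem exists_iterated_product {ι : Type u} (V : ι → Over S) (f : ∀ i, (yon S).obj (V i) ⟶ X)
    (hf : ∀ i, RepWith @Etale (f i)) : ∀ (n : ℕ) (c : Fin (n + 1) → ι),
    ∃ (W : Over S) (b : (yon S).obj W ⟶ X) (π : ∀ k, W ⟶ V (c k)), RepWith @Etale b ∧
      (∀ k, (yon S).map (π k) ≫ f (c k) = b) ∧ ∀ (T : Over S) (l : ∀ k, T ⟶ V (c k)) (t : (yon S).obj T ⟶ X),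
        (∀ k, (yon S).map (l k) ≫ f (c k) = t) → ∃! w : T ⟶ W, ∀ k, w ≫ π k = l k
  | 0, c => by
    refine ⟨V (c 0), f (c 0), fun k => eqToHom (congrArg (fun k => V (c k)) (Fin.fin_one_eq_zero k).symm), hf _,
      fun k => ?_, fun T l t h => ⟨l 0, fun k => ?_, fun w hw => ?_⟩⟩
    · obtain rfl := Fin.fin_one_eq_zero k
      simp
    · obtain rfl := Fin.fin_one_eq_zero k
      simp
    · simpa using hw 0
  | m + 1, c => by
    obtain ⟨W, b, π, hb, hπ, hu⟩ := exists_iterated_product V f hf m (fun k => c k.succ)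
    obtain ⟨W', p₀', q, hq⟩ : ∃ (W' : Over S) (p₀' : (yon S).obj W' ⟶ (yon S).obj (V (c 0))) (q : W' ⟶ W),
        IsPullback p₀' ((yon S).map q) (f (c 0)) b := ⟨_, _, _, (hf (c 0)).1.isPullback b⟩
    obtain ⟨p₀, rfl⟩ := (yon S).map_surjective p₀'
    refine ⟨W', (yon S).map q ≫ b, Fin.cases p₀ (fun k => q ≫ π k),
      repWith_comp (repWith_yon_map ((hf (c 0)).2 _ _ _ hq)) hb, ?_, fun T l t h => ?_⟩
    · refine Fin.cases ?_ (fun k => ?_)
      · exact hq.w
      · simp only [Fin.cases_succ, Functor.map_comp, Category.assoc]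
        rw [hπ k]
    · obtain ⟨w₁, hw₁, hw₁'⟩ := hu T (fun k => l k.succ) t (fun k => h k.succ)
      have hc : (yon S).map (l 0) ≫ f (c 0) = (yon S).map w₁ ≫ b := by
        rw [h 0, ← hπ 0, ← Functor.map_comp_assoc, hw₁ 0]
        exact (h _).symm
      obtain ⟨w, hw⟩ := (yon S).map_surjective (hq.lift _ _ hc)
      have e0 : w ≫ p₀ = l 0 := (yon S).map_injective (by rw [Functor.map_comp, hw, hq.lift_fst])
      have e1 : w ≫ q = w₁ := (yon S).map_injective (by rw [Functor.map_comp, hw, hq.lift_snd])
      refine ⟨w, ?_, fun w' hw' => ?_⟩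
      · intro k
        induction k using Fin.cases with
        | zero => exact e0
        | succ k =>
          simp only [Fin.cases_succ]
          rw [← Category.assoc, e1, hw₁ k]
      · apply (yon S).map_injective
        apply hq.hom_ext
        · rw [← Functor.map_comp, ← Functor.map_comp, e0, show w' ≫ p₀ = l 0 from hw' 0]
        · rw [← Functor.map_comp, ← Functor.map_comp, e1, hw₁' (w' ≫ q) (fun k => by
            rw [Category.assoc]
            simpa using hw' k.succ)]

/-- The property holds for the algebraic space. -/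
theorem prop_id (hX : IsAlgSpace X) (hP : Desc P)
    (haff : ∀ ⦃U : Sp S⦄ (a : U ⟶ X) (T : Over S) (_ : U ≅ (yon S).obj T), IsAffine T.left →
      LocP @Flat a → LocP @LocallyOfFinitePresentation a → P a) : P (𝟙 X) := by
  obtain ⟨U₀, p, hpe, hps⟩ := hX.atlas
  let V : U₀.left.affineOpens → Over S := fun i => Over.mk (i.1.ι ≫ U₀.hom)
  let f : ∀ i, (yon S).obj (V i) ⟶ X := fun i => (yon S).map (Over.homMk i.1.ι rfl : V i ⟶ U₀) ≫ p
  have hf : ∀ i, RepWith @Etale (f i) := fun i =>
    repWith_comp (repWith_yon_map (inferInstanceAs (Etale i.1.ι))) hpe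
  refine hP (𝟙 X) hX _ f (fun i => IsAlgSpace.yon_obj _)
    ⟨fun i => ⟨locP_of_repWith (repWith_mono (fun _ _ k (hk : Etale k) => (haveI := hk; inferInstance : Flat k)) (hf i)),
      locP_of_repWith (repWith_mono (fun _ _ k (hk : Etale k) =>
        (haveI := hk; inferInstance : LocallyOfFinitePresentation k)) (hf i))⟩, fun x => ?_⟩ fun n c => ?_
  · obtain ⟨y, rfl⟩ := surjective_map_of_repWith hps x
    obtain ⟨t, rfl⟩ := (Points.schemeHomeo U₀).surjective y
    obtain ⟨O, hO, ht, -⟩ := exists_isAffineOpen_mem_and_subset (x := t) (U := (⊤ : U₀.left.Opens)) trivial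
    refine ⟨⟨O, hO⟩, Points.schemeHomeo (V ⟨O, hO⟩) ⟨t, ht⟩, ?_⟩
    rw [Points.map_comp, Points.map_yon_map_apply]
    rfl
  · obtain ⟨W, b, π, hb, hπ, hu⟩ := exists_iterated_product V f hf n c
    let L : (yon S).obj W ⟶ widePullback X (fun k => (yon S).obj (V (c k))) (fun k => f (c k)) :=
      WidePullback.lift b (fun k => (yon S).map (π k)) hπ
    haveI : IsIso L := isIso_of_bijective L fun T t => by
      have hl : ∀ k, ∃ l : T ⟶ V (c k), (yon S).map l = t ≫ WidePullback.π _ k := fun k =>
        (yon S).map_surjective _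
      choose l hl using hl
      have ht : ∀ k, (yon S).map (l k) ≫ f (c k) = t ≫ WidePullback.base _ := fun k => by
        rw [hl k, Category.assoc, WidePullback.π_arrow (fun k => f (c k)) k]
      obtain ⟨w, hw, hw'⟩ := hu T l _ ht
      refine ⟨(yon S).map w, WidePullback.hom_ext _ _ _ (fun k => ?_) ?_, fun s hs => ?_⟩
      · rw [Category.assoc, WidePullback.lift_π, ← Functor.map_comp, hw k, hl k]
      · rw [Category.assoc, WidePullback.lift_base, ← hπ 0, ← Functor.map_comp_assoc, hw 0, ht 0]
      · obtain ⟨s, rfl⟩ := (yon S).map_surjective s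
        congr 1
        refine hw' s fun k => (yon S).map_injective ?_
        rw [Functor.map_comp, hl k, ← hs, Category.assoc, WidePullback.lift_π]
    have e1 : WidePullback.base (fun k => f (c k)) = inv L ≫ b := by
      rw [IsIso.eq_inv_comp, WidePullback.lift_base]
    have hbb : RepWith @Etale (WidePullback.base (fun k => f (c k)) ≫ 𝟙 X) := by
      rw [Category.comp_id, e1]
      exact repWith_comp (repWith_of_isIso _) hb
    exact prop_of_scheme hP haff _ W (asIso L).symm
      (locP_of_repWith (repWith_mono (fun _ _ k (hk : Etale k) => (haveI := hk; inferInstance : Flat k)) hbb))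
      (locP_of_repWith (repWith_mono (fun _ _ k (hk : Etale k) =>
        (haveI := hk; inferInstance : LocallyOfFinitePresentation k)) hbb))

end Groth.Agent.CechDescLib
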